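import Groth.Agent.Lib.SchDense29.RelDense

/-!
# Generic points of group schemes with respect to a relatively schematically dense open
-/

set_option autoImplicit false
set_option linter.style.haveILetI false
set_option backward.isDefEq.respectTransparency false
set_option backward.isDefEq.respectTransparency.types false

universe u

open CategoryTheory CategoryTheory.Limits MonoidalCategory CartesianMonoidalCategory MonObj AlgebraicGeometry Opposite

noncomputable section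

namespace Groth.Agent.GenExt20

theorem dense_preimage {X Y : Scheme.{u}} (j : Y ⟶ X) [IsOpenImmersion j] {U : X.Opens}
    (hU : CInt.IsSchematicallyDense U) : CInt.IsSchematicallyDense (j ⁻¹ᵁ U) := by
  intro V a b hab
  have hle : j ''ᵁ (V ⊓ j ⁻¹ᵁ U) ≤ j ''ᵁ V := j.image_mono inf_le_left
  have hA : (j ''ᵁ V) ⊓ U ≤ j ''ᵁ (V ⊓ j ⁻¹ᵁ U) := by
    rintro x ⟨⟨y, hy, rfl⟩, hxU⟩
    exact ⟨y, ⟨hy, hxU⟩, rfl⟩
  have hinj : Function.Injective (j.appIso V).inv := (ConcreteCategory.bijective_of_isIso (j.appIso V).inv).injective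
  apply hinj
  apply NeronMap.injective_map_of_le hU hle hA
  have h := j.appIso_inv_naturality (homOfLE (inf_le_left : V ⊓ j ⁻¹ᵁ U ≤ V)).op
  have ea : ∀ c, X.presheaf.map (homOfLE hle).op ((j.appIso V).inv c) =
      (j.appIso (V ⊓ j ⁻¹ᵁ U)).inv (Y.presheaf.map (homOfLE (inf_le_left : V ⊓ j ⁻¹ᵁ U ≤ V)).op c) := fun c =>
    (congrArg (fun m => m.hom c) h).symm
  rw [ea, ea, hab]

theorem dense_of_isSchematicallyDense {X : Scheme.{u}} {U : X.Opens} (hU : CInt.IsSchematicallyDense U) :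
    Dense (U : Set X) := by
  rw [dense_iff_inter_open]
  intro W hW hne
  by_contra h
  rw [Set.not_nonempty_iff_eq_empty] at h
  let V : X.Opens := ⟨W, hW⟩
  have hVU : V ⊓ U = ⊥ := TopologicalSpace.Opens.ext (by simpa [V] using h)
  haveI : Subsingleton Γ(X, V ⊓ U) := by rw [hVU]; infer_instance
  have h01 : (1 : Γ(X, V)) = 0 := hU V (Subsingleton.elim _ _)
  have e := X.basicOpen_of_isUnit (U := V) (f := 1) isUnit_one
  rw [h01, Scheme.basicOpen_zero] at e
  obtain ⟨x, hx⟩ := hne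
  have : x ∈ (⊥ : X.Opens) := e ▸ (show x ∈ V from hx)
  exact this

variable {S : Scheme.{u}} {G : Over S}

theorem dense_snd_preimage (U : G.left.Opens)
    (hU : ∀ (S' : Scheme.{u}) (g : S' ⟶ S), CInt.IsSchematicallyDense ((pullback.fst G.hom g) ⁻¹ᵁ U))
    (P : Over S) : Dense (((snd P G).left ⁻¹ᵁ U : (P ⊗ G).left.Opens) : Set ↥(P ⊗ G).left) := by
  have h : CInt.IsSchematicallyDense ((pullbackSymmetry P.hom G.hom).hom ⁻¹ᵁ (pullback.fst G.hom P.hom ⁻¹ᵁ U)) :=
    dense_preimage _ (hU P.left P.hom)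
  rw [← Scheme.Hom.comp_preimage, pullbackSymmetry_hom_comp_fst] at h
  exact dense_of_isSchematicallyDense h

variable [GrpObj G]

/-- Four left translates of `U` and one translate of its inverse meet in every fibre. -/
theorem exists_generic [Flat G.hom] [LocallyOfFinitePresentation G.hom] (U : G.left.Opens)
    (hU : ∀ (S' : Scheme.{u}) (g : S' ⟶ S), CInt.IsSchematicallyDense ((pullback.fst G.hom g) ⁻¹ᵁ U))
    {Uo : Over S} (jU : Uo ⟶ G) [IsOpenImmersion jU.left] (hr : Set.range jU.left.base = (U : Set G.left))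
    {T : Over S} (a b c d x : T ⟶ G) :
    ∃ (T' : Over S) (q : T' ⟶ T) (e : T' ⟶ G), Flat q.left ∧ LocallyOfFinitePresentation q.left ∧ Surjective q.left ∧
      (∃ r, r ≫ jU = (q ≫ a) * e) ∧ (∃ r, r ≫ jU = (q ≫ b) * e) ∧ (∃ r, r ≫ jU = (q ≫ c) * e) ∧
      (∃ r, r ≫ jU = (q ≫ d) * e) ∧ (∃ r, r ≫ jU = e⁻¹ * (q ≫ x)) := by
  let ml : (T ⟶ G) → (T ⊗ G ⟶ G) := fun z => (fst T G ≫ z) * snd T G
  let mr : T ⊗ G ⟶ G := (snd T G)⁻¹ * (fst T G ≫ x)
  let W : (T ⊗ G).left.Opens := (ml a).left ⁻¹ᵁ U ⊓ ((ml b).left ⁻¹ᵁ U ⊓ ((ml c).left ⁻¹ᵁ U ⊓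
    ((ml d).left ⁻¹ᵁ U ⊓ mr.left ⁻¹ᵁ U)))
  let T' : Over S := Over.mk (W.ι ≫ (T ⊗ G).hom)
  let j : T' ⟶ T ⊗ G := Over.homMk W.ι rfl
  have hfac : ∀ m : T ⊗ G ⟶ G, W ≤ m.left ⁻¹ᵁ U → ∃ r, r ≫ jU = j ≫ m := by
    intro m hm
    have hsub : Set.range (j ≫ m).left.base ⊆ Set.range jU.left.base := by
      rw [hr]
      rintro _ ⟨y, rfl⟩
      exact hm y.2
    refine ⟨Over.homMk (IsOpenImmersion.lift jU.left (j ≫ m).left hsub) ?_, ?_⟩
    · rw [← Over.w jU, ← Category.assoc, IsOpenImmersion.lift_fac, Over.w]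
    · ext1
      exact IsOpenImmersion.lift_fac _ _ _
  haveI : Flat (fst T G).left := inferInstanceAs (Flat (pullback.fst T.hom G.hom))
  haveI : LocallyOfFinitePresentation (fst T G).left :=
    inferInstanceAs (LocallyOfFinitePresentation (pullback.fst T.hom G.hom))
  refine ⟨T', j ≫ fst T G, j ≫ snd T G, ?_, ?_, ?_, ?_, ?_, ?_, ?_, ?_⟩
  · exact inferInstanceAs (Flat (W.ι ≫ (fst T G).left))
  · exact inferInstanceAs (LocallyOfFinitePresentation (W.ι ≫ (fst T G).left))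
  · refine ⟨fun t => ?_⟩
    let P : Over S := Over.mk (T.left.fromSpecResidueField t ≫ T.hom)
    let pt : P ⟶ T := Over.homMk (T.left.fromSpecResidueField t) rfl
    let D : Set ↥(P ⊗ G).left := ((snd P G).left ⁻¹ᵁ U : (P ⊗ G).left.Opens)
    have hD : Dense D := dense_snd_preimage U hU P
    have hiso : ∀ φ : P ⊗ G ≅ P ⊗ G, Dense (φ.hom.left.base ⁻¹' D) := fun φ => by
      haveI : IsIso φ.hom.left := inferInstanceAs (IsIso ((Over.forget S).map φ.hom))
      exact hD.preimage φ.hom.left.homeomorph.isOpenMap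
    have hcomp : ∀ {A B : Over S} (f : A ⟶ B) (g : B ⟶ G) (z : ↥A.left),
        g.left.base (f.left.base z) = (f ≫ g).left.base z := fun f g z => rfl
    let ir : P ⊗ G ≅ P ⊗ G :=
      { hom := lift (fst P G) ((snd P G)⁻¹ * (fst P G ≫ pt ≫ x))
        inv := lift (fst P G) ((fst P G ≫ pt ≫ x) * (snd P G)⁻¹)
        hom_inv_id := by apply CartesianMonoidalCategory.hom_ext <;> simp [comp_mul, GrpObj.comp_inv]
        inv_hom_id := by apply CartesianMonoidalCategory.hom_ext <;> simp [comp_mul, GrpObj.comp_inv] }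
    let sh : (T ⟶ G) → (P ⊗ G ≅ P ⊗ G) := fun z => AbRigid.shear (pt ≫ z)
    have hl : ∀ z, (pt ▷ G) ≫ ml z = (sh z).hom ≫ snd P G := fun z => by
      simp [ml, sh, AbRigid.shear, comp_mul]
    have hrr : (pt ▷ G) ≫ mr = ir.hom ≫ snd P G := by
      simp [mr, ir, comp_mul, GrpObj.comp_inv]
    haveI : Nonempty ↥(P ⊗ G).left :=
      ⟨(lift (𝟙 P) (1 : P ⟶ G)).left.base (IsLocalRing.closedPoint (T.left.residueField t))⟩
    have ho : ∀ φ : P ⊗ G ≅ P ⊗ G, IsOpen (φ.hom.left.base ⁻¹' D) := fun φ =>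
      ((snd P G).left ⁻¹ᵁ U : (P ⊗ G).left.Opens).2.preimage φ.hom.left.continuous
    obtain ⟨z, hz1, hz2, hz3, hz4, hz5⟩ := (((hiso (sh a)).inter_of_isOpen_left
      ((hiso (sh b)).inter_of_isOpen_left ((hiso (sh c)).inter_of_isOpen_left
        ((hiso (sh d)).inter_of_isOpen_left (hiso ir) (ho _)) (ho _)) (ho _)) (ho _))).nonempty
    have hW : (pt ▷ G).left.base z ∈ W := by
      refine ⟨?_, ?_, ?_, ?_, ?_⟩
      · show (ml a).left.base ((pt ▷ G).left.base z) ∈ U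
        rw [hcomp, hl]; exact hz1
      · show (ml b).left.base ((pt ▷ G).left.base z) ∈ U
        rw [hcomp, hl]; exact hz2
      · show (ml c).left.base ((pt ▷ G).left.base z) ∈ U
        rw [hcomp, hl]; exact hz3
      · show (ml d).left.base ((pt ▷ G).left.base z) ∈ U
        rw [hcomp, hl]; exact hz4
      · show mr.left.base ((pt ▷ G).left.base z) ∈ U
        rw [hcomp, hrr]; exact hz5
    refine ⟨⟨_, hW⟩, ?_⟩
    show (fst T G).left.base ((pt ▷ G).left.base z) = t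
    rw [← Scheme.Hom.comp_apply, ← Over.comp_left, whiskerRight_fst]
    exact Scheme.fromSpecResidueField_apply t _
  · obtain ⟨r, h⟩ := hfac (ml a) inf_le_left
    exact ⟨r, by rw [h]; simp [ml, comp_mul]⟩
  · obtain ⟨r, h⟩ := hfac (ml b) (inf_le_right.trans inf_le_left)
    exact ⟨r, by rw [h]; simp [ml, comp_mul]⟩
  · obtain ⟨r, h⟩ := hfac (ml c) (inf_le_right.trans (inf_le_right.trans inf_le_left))
    exact ⟨r, by rw [h]; simp [ml, comp_mul]⟩
  · obtain ⟨r, h⟩ := hfac (ml d) (inf_le_right.trans (inf_le_right.trans (inf_le_right.trans inf_le_left)))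
    exact ⟨r, by rw [h]; simp [ml, comp_mul]⟩
  · obtain ⟨r, h⟩ := hfac mr (inf_le_right.trans (inf_le_right.trans (inf_le_right.trans inf_le_right)))
    exact ⟨r, by rw [h]; simp [mr, comp_mul, GrpObj.comp_inv]⟩

end Groth.Agent.GenExt20
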